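import Groth.Agent.S1379
import Groth.Agent.S1390
import Groth.Prelude.Def_Mor2

/-!
# Refining fppf covers by towers of finite locally free covers and Zariski covers
-/

set_option autoImplicit false

universe u

open CategoryTheory Limits AlgebraicGeometry

namespace FppfTowerLib

/-- S1379 with the lift defined on all of the finite flat cover. -/
theorem etale_finite_lift {S₁ S : Scheme.{u}} (g : S₁ ⟶ S) [Flat g] [LocallyOfFinitePresentation g] [Surjective g] (s : S) :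
    ∃ (S' V : Scheme.{u}) (e : S' ⟶ S) (π : V ⟶ S'), Etale e ∧ s ∈ Set.range ⇑e ∧ Surjective π ∧ IsFinite π ∧ Flat π ∧ LocallyOfFinitePresentation π ∧
      ∃ r : V ⟶ S₁, r ≫ g = π ≫ e := by
  obtain ⟨U, hU, hsU, -⟩ := exists_isAffineOpen_mem_and_subset (x := s) (U := (⊤ : S.Opens)) trivial
  obtain ⟨x, hx⟩ := Surjective.surj (f := g) s
  obtain ⟨W, hW, hxW, hWU⟩ := exists_isAffineOpen_mem_and_subset (x := x) (U := g ⁻¹ᵁ U) (by show g x ∈ U; rw [hx]; exact hsU)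
  let φ := g.appLE U W hWU
  letI := φ.hom.toAlgebra
  haveI : Algebra.FinitePresentation Γ(S, U) Γ(S₁, W) :=
    LocallyOfFinitePresentation.finitePresentation_appLE g hU hW hWU
  haveI : Module.Flat Γ(S, U) Γ(S₁, W) := Flat.flat_appLE g hU hW hWU
  let p := hU.primeIdealOf ⟨s, hsU⟩
  have hp : p ∈ Set.range (PrimeSpectrum.comap (algebraMap Γ(S, U) Γ(S₁, W))) := by
    refine ⟨hW.primeIdealOf ⟨x, hxW⟩, ?_⟩
    have := IsAffineOpen.comap_primeIdealOf_appLE (f := g) U hU W hW hWU hxW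
    refine this.trans ?_
    congr 1
    exact Subtype.ext hx
  obtain ⟨D, _, _, ⟨hqf, hfp, hfl, ⟨ψ⟩⟩, O, -, hpO, hO⟩ := FlatLib.exists_qf_nhd (B := Γ(S₁, W)) p hp
  obtain ⟨z, hz⟩ := hO hpO
  let a : CommRingCat.of Γ(S, U) ⟶ CommRingCat.of D := CommRingCat.ofHom (algebraMap Γ(S, U) D)
  let f : Spec (.of D) ⟶ Spec Γ(S, U) := Spec.map a
  haveI : LocallyOfFinitePresentation f :=
    HasRingHomProperty.Spec_iff.mpr (RingHom.finitePresentation_algebraMap.mpr hfp)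
  haveI : Flat f := HasRingHomProperty.Spec_iff.mpr (RingHom.flat_algebraMap_iff.mpr hfl)
  haveI : LocallyQuasiFinite f :=
    HasRingHomProperty.Spec_iff.mpr (RingHom.quasiFinite_algebraMap.mpr hqf)
  let r : Spec (.of D) ⟶ S₁ := Spec.map (CommRingCat.ofHom ψ.toRingHom) ≫ hW.fromSpec
  have hr : r ≫ g = f ≫ hU.fromSpec := by
    rw [Category.assoc, ← IsAffineOpen.SpecMap_appLE_fromSpec g hU hW hWU, ← Category.assoc, ← Spec.map_comp]
    congr 2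
    ext a
    exact ψ.commutes a
  have hfz : f z = p := hz
  have hqfz : f.QuasiFiniteAt z := f.quasiFiniteAt z
  obtain ⟨T, j, hj, ⟨t₀, ht₀⟩, V, V', v, -, hfin, hv⟩ := exists_etale_isCompl_of_quasiFiniteAt f hfz hqfz
  let π₀ := V.ι ≫ pullback.snd f j
  have ht : j (π₀ v) = p := by
    rw [← hfz, ← hv]
    show (V.ι ≫ pullback.snd f j ≫ j) v = (V.ι ≫ pullback.fst f j ≫ f) v
    rw [pullback.condition]
  let S' : T.Opens := ⟨Set.range π₀, π₀.isOpenMap.isOpen_range⟩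
  haveI := hfin
  refine ⟨S'.toScheme, (π₀ ⁻¹ᵁ S').toScheme, S'.ι ≫ j ≫ hU.fromSpec, π₀ ∣_ S', inferInstance, ?_, ⟨?_⟩,
    inferInstance, inferInstance, inferInstance, (π₀ ⁻¹ᵁ S').ι ≫ V.ι ≫ pullback.fst f j ≫ r, ?_⟩
  · refine ⟨⟨π₀ v, v, rfl⟩, ?_⟩
    show hU.fromSpec (j (π₀ v)) = s
    rw [ht]
    exact hU.fromSpec_primeIdealOf ⟨s, hsU⟩
  · rintro ⟨y, w, hw⟩
    refine ⟨⟨w, ⟨w, rfl⟩⟩, Subtype.ext ?_⟩
    rw [morphismRestrict_base_coe]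
    exact hw
  · simp only [Category.assoc, hr, pullback.condition_assoc, morphismRestrict_ι_assoc, π₀]


/-- Around each point, an fppf cover is refined by finite locally free, then Zariski, then finite
locally free covers. -/
theorem exists_tower {S₁ S : Scheme.{u}} (g : S₁ ⟶ S) [Flat g] [LocallyOfFinitePresentation g] [Surjective g] (s : S) :
    ∃ (U : S.Opens) (W : Scheme.{u}) (π : W ⟶ U.toScheme), s ∈ U ∧ Mor2.IsFinLocFree π ∧ Surjective π ∧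
      ∀ w : W, ∃ (W' : W.Opens) (T : Scheme.{u}) (ρ : T ⟶ W'.toScheme) (r : T ⟶ S₁),
        w ∈ W' ∧ Mor2.IsFinLocFree ρ ∧ Surjective ρ ∧ r ≫ g = ρ ≫ W'.ι ≫ π ≫ U.ι := by
  obtain ⟨S', V, e, π, he, ⟨s', hs'⟩, hπs, hπf, hπfl, hπfp, r, hr⟩ := etale_finite_lift g s
  haveI := he
  obtain ⟨V₀, T₀, π₀, hsV₀, -, hsurj, hfin, hfl, hlfp, hlift⟩ := Groth.Agent.S1390.result e s' s hs'
  haveI := hfin
  let O : Set T₀ := {t | ∃ (Z : T₀.Opens) (h : (Z : Scheme.{u}) ⟶ S'), t ∈ Z ∧ h ≫ e = Z.ι ≫ π₀ ≫ V₀.ι}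
  have hO : IsOpen O := isOpen_iff_forall_mem_open.mpr fun t ⟨Z, h, ht, he'⟩ =>
    ⟨Z, fun t' ht' => ⟨Z, h, ht', he'⟩, Z.isOpen, ht⟩
  let U₁ : V₀.toScheme.Opens := ⟨(π₀ '' Oᶜ)ᶜ, (π₀.isClosedMap _ hO.isClosed_compl).isOpen_compl⟩
  let U : S.Opens := V₀.ι ''ᵁ U₁
  let π' : (π₀ ⁻¹ᵁ U₁).toScheme ⟶ U.toScheme := (π₀ ∣_ U₁) ≫ (V₀.ι.isoImage U₁).hom
  have hπ' : π' ≫ U.ι = (π₀ ⁻¹ᵁ U₁).ι ≫ π₀ ≫ V₀.ι := by
    simp only [π', Category.assoc]
    rw [Scheme.Hom.isoImage_hom_ι, ← Category.assoc, morphismRestrict_ι, Category.assoc]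
  haveI := hfl
  haveI := hlfp
  haveI := hsurj
  haveI : Surjective (π₀ ∣_ U₁) := IsZariskiLocalAtTarget.restrict hsurj U₁
  refine ⟨U, (π₀ ⁻¹ᵁ U₁).toScheme, π', ⟨⟨s, hsV₀⟩, ?_, rfl⟩, ⟨inferInstance, inferInstance, inferInstance⟩,
    inferInstance, fun w => ?_⟩
  · rintro ⟨t, ht, hts⟩
    obtain ⟨Z, h, htZ, he', -⟩ := hlift t (by rw [hts]; rfl)
    exact ht ⟨Z, h, htZ, he'⟩
  obtain ⟨Z, h, hwZ, he'⟩ : w.1 ∈ O := by
    by_contra hn
    exact (show π₀ w.1 ∈ U₁ from w.2) ⟨w.1, hn, rfl⟩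
  let W' : (π₀ ⁻¹ᵁ U₁).toScheme.Opens := (π₀ ⁻¹ᵁ U₁).ι ⁻¹ᵁ Z
  let l : W'.toScheme ⟶ S' := ((π₀ ⁻¹ᵁ U₁).ι ∣_ Z) ≫ h
  have hle : l ≫ e = W'.ι ≫ π' ≫ U.ι := by
    simp only [l, Category.assoc]
    rw [he', hπ', ← Category.assoc, morphismRestrict_ι, Category.assoc]
  haveI := hπf
  haveI := hπfl
  haveI := hπfp
  haveI := hπs
  refine ⟨W', pullback π l, pullback.snd π l, pullback.fst π l ≫ r, hwZ,
    ⟨inferInstance, inferInstance, inferInstance⟩, inferInstance, ?_⟩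
  rw [Category.assoc, hr, ← Category.assoc, pullback.condition, Category.assoc, hle]

end FppfTowerLib
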